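import Mathlib
import Groth.Agent.SymPolyLib.Split

/-!
Finite flat covers dominating standard étale algebras, built from universal splitting algebras.
-/

set_option autoImplicit false
universe u

namespace Groth.Agent.SplitCoverLib

open Polynomial TensorProduct Groth.Agent.SymPolyLib

variable {R : Type u} [CommRing R]

/-- The ideal of a prime in a localization away from an element outside it is a kernel. -/
theorem map_eq_of_comap_eq {A : Type u} [CommRing A] (g : A) (q : Ideal A)
    (J : Ideal (Localization.Away g)) (hJ : J.comap (algebraMap A (Localization.Away g)) = q) :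
    q.map (algebraMap A (Localization.Away g)) = J := by
  rw [← hJ]
  exact IsLocalization.map_comap (.powers g) (Localization.Away g) J

/-- The universal splitting algebra of the polynomial of a standard étale algebra. -/
theorem exists_cover_standard (S : Type u) [CommRing S] [Algebra R S]
    [Algebra.IsStandardEtale R S] :
    ∃ (S' : Type u) (_ : CommRing S') (_ : Algebra R S'),
      Module.Finite R S' ∧ Algebra.FinitePresentation R S' ∧ Module.FaithfullyFlat R S' ∧
        ∀ (q : Ideal S) [q.IsPrime] (q' : Ideal S') [q'.IsPrime], q'.under R = q.under R →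
          ∃ (g' : S') (_ : g' ∉ q') (φ : S →ₐ[R] Localization.Away g'),
            (q'.map (algebraMap S' (Localization.Away g'))).comap φ = q := by
  classical
  rcases subsingleton_or_nontrivial R with hR | hR
  · refine ⟨R, inferInstance, inferInstance, inferInstance, inferInstance, inferInstance,
      fun q _ q' hq' _ => ?_⟩
    exact absurd (Subsingleton.elim q' ⊤) hq'.ne_top
  obtain ⟨P⟩ := Algebra.IsStandardEtale.nonempty_standardEtalePresentation (R := R) (S := S)
  set r := P.f.natDegree
  have hdeg : Deg r P.f := ⟨le_rfl, P.monic_f.coeff_natDegree⟩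
  obtain ⟨b⟩ := exists_basis_split r R P.f hdeg
  haveI : Module.Free R (SplitAlg r P.f) := Module.Free.of_basis b
  haveI : Module.Finite R (SplitAlg r P.f) := Module.Finite.of_basis b
  haveI : Nontrivial (SplitAlg r P.f) :=
    haveI : Nonempty (Fin r.factorial) := ⟨⟨0, Nat.factorial_pos r⟩⟩
    b.repr.toEquiv.nontrivial
  refine ⟨SplitAlg r P.f, inferInstance, inferInstance, inferInstance,
    Algebra.FinitePresentation.quotient (Submodule.fg_span (Set.finite_range _)), inferInstance,
    fun q _ q' _ hqq' => ?_⟩
  set p := q.under R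
  haveI : q'.LiesOver p := ⟨hqq'.symm⟩
  letI : Algebra p.ResidueField q.ResidueField :=
    (Ideal.ResidueField.mapₐ p q (Algebra.ofId R S) rfl).toRingHom.toAlgebra
  haveI : IsScalarTower R p.ResidueField q.ResidueField :=
    .of_algebraMap_eq fun x => ((Ideal.ResidueField.mapₐ p q (Algebra.ofId R S) rfl).commutes x).symm
  haveI : Algebra.QuasiFinite p.ResidueField q.ResidueField :=
    Algebra.QuasiFinite.of_restrictScalars R _ _
  haveI : Module.Finite p.ResidueField q.ResidueField := Module.Finite.of_quasiFinite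
  let Ω := AlgebraicClosure q'.ResidueField
  letI : Algebra p.ResidueField q'.ResidueField :=
    (Ideal.ResidueField.mapₐ p q' (Algebra.ofId R _) hqq'.symm).toRingHom.toAlgebra
  haveI : IsScalarTower R p.ResidueField q'.ResidueField :=
    .of_algebraMap_eq fun x =>
      ((Ideal.ResidueField.mapₐ p q' (Algebra.ofId R _) hqq'.symm).commutes x).symm
  let τ : q.ResidueField →ₐ[p.ResidueField] Ω := IsAlgClosed.lift
  let h : S →ₐ[R] Ω := (τ.restrictScalars R).comp (IsScalarTower.toAlgHom R S q.ResidueField)
  let v : SplitAlg r P.f →ₐ[R] Ω :=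
    (IsScalarTower.toAlgHom R q'.ResidueField Ω).comp (IsScalarTower.toAlgHom R _ q'.ResidueField)
  let U : Fin r → SplitAlg r P.f := fun i => Ideal.Quotient.mk _ (MvPolynomial.X i)
  obtain ⟨i, hi⟩ : ∃ i, v (U i) = h P.x := by
    have h0 : (P.f.map (algebraMap R Ω)).eval (h P.x) = 0 := by
      rw [eval_map, ← aeval_def, aeval_algHom_apply, P.hasMap.1, map_zero]
    have h1 : P.f.map (algebraMap R Ω) = ∏ i, (X - C (v (U i))) := by
      rw [← v.comp_algebraMap, ← Polynomial.map_map, ← prod_mk hdeg, Polynomial.map_prod]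
      exact Finset.prod_congr rfl fun i _ => by simp [U]
    rw [h1, eval_prod, Finset.prod_eq_zero_iff] at h0
    obtain ⟨i, -, hi⟩ := h0
    exact ⟨i, by rw [eval_sub, eval_X, eval_C, sub_eq_zero] at hi; exact hi.symm⟩
  have hv : ∀ a, v a = 0 ↔ a ∈ q' := fun a => by
    show algebraMap q'.ResidueField Ω (algebraMap _ q'.ResidueField a) = 0 ↔ _
    rw [map_eq_zero, Ideal.algebraMap_residueField_eq_zero]
  have hh : ∀ a, h a = 0 ↔ a ∈ q := fun a => by
    show τ (algebraMap S q.ResidueField a) = 0 ↔ _
    rw [map_eq_zero, Ideal.algebraMap_residueField_eq_zero]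
  set g' := aeval (U i) P.g
  have hg' : g' ∉ q' := by
    intro hmem
    rw [← hv, ← aeval_algHom_apply, hi, aeval_algHom_apply] at hmem
    exact (P.hasMap.2.map h).ne_zero hmem
  let ι := IsScalarTower.toAlgHom R (SplitAlg r P.f) (Localization.Away g')
  have hmap : P.HasMap (ι (U i)) := by
    refine ⟨?_, ?_⟩
    · rw [aeval_algHom_apply]
      have : aeval (U i) P.f = 0 := by
        rw [aeval_def, ← eval_map, ← prod_mk hdeg, eval_prod]
        exact Finset.prod_eq_zero (Finset.mem_univ i) (by simp [U])
      rw [this, map_zero]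
    · rw [aeval_algHom_apply]
      exact IsLocalization.Away.algebraMap_isUnit g'
  let φ : S →ₐ[R] Localization.Away g' := (P.lift _ hmap).comp P.equivRing.toAlgHom
  refine ⟨g', hg', φ, ?_⟩
  have hu : IsUnit (v.toRingHom g') := isUnit_iff_ne_zero.mpr fun h0 => hg' ((hv _).mp h0)
  let Ψ : Localization.Away g' →+* Ω := IsLocalization.Away.lift g' hu
  have hΨ : ∀ a, Ψ (algebraMap _ _ a) = v a := fun a => IsLocalization.Away.lift_eq g' hu a
  rw [map_eq_of_comap_eq g' q' (RingHom.ker Ψ) (Ideal.ext fun a => by
    rw [Ideal.mem_comap, RingHom.mem_ker, hΨ, hv])]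
  let Ψ' : Localization.Away g' →ₐ[R] Ω :=
    { Ψ with
      commutes' := fun x => by
        show Ψ (algebraMap R (Localization.Away g') x) = _
        rw [IsScalarTower.algebraMap_apply R (SplitAlg r P.f) (Localization.Away g'), hΨ,
          v.commutes] }
  have hcomp : Ψ'.comp φ = h := by
    refine StandardEtalePresentation.hom_ext P ?_
    show Ψ (P.lift _ hmap (P.equivRing P.x)) = _
    rw [StandardEtalePresentation.equivRing_x, StandardEtalePair.lift_X]
    show Ψ (algebraMap _ _ (U i)) = _
    rw [hΨ, hi]
  ext a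
  rw [Ideal.mem_comap, RingHom.mem_ker, ← hh, ← hcomp]
  rfl

variable (R) in
/-- The property of dominating a family of algebras. -/
def Dominates (S : Type u) [CommRing S] [Algebra R S] (t : Finset S) (S' : Type u) [CommRing S']
    [Algebra R S'] : Prop :=
  ∀ (q' : Ideal S') [q'.IsPrime], ∀ f ∈ t,
    (∃ q : PrimeSpectrum S, f ∉ q.asIdeal ∧ q.asIdeal.under R = q'.under R) →
      ∃ (g' : S') (_ : g' ∉ q'), Nonempty (S →ₐ[R] Localization.Away g')

theorem exists_dominating (S : Type u) [CommRing S] [Algebra R S] (t : Finset S)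
    (ht : ∀ f ∈ t, Algebra.IsStandardEtale R (Localization.Away f)) :
    ∃ (S' : Type u) (_ : CommRing S') (_ : Algebra R S'),
      Module.Finite R S' ∧ Algebra.FinitePresentation R S' ∧ Module.FaithfullyFlat R S' ∧
        Dominates R S t S' := by
  classical
  induction t using Finset.induction with
  | empty =>
    exact ⟨R, inferInstance, inferInstance, inferInstance, inferInstance, inferInstance,
      fun _ _ _ hf => absurd hf (Finset.notMem_empty _)⟩
  | insert f t hft ih =>
    obtain ⟨A, _, _, hA1, hA2, hA3, hA⟩ := ih fun f' hf' => ht f' (Finset.mem_insert_of_mem hf')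
    haveI := ht f (Finset.mem_insert_self f t)
    obtain ⟨B, _, _, hB1, hB2, hB3, hB⟩ := exists_cover_standard (R := R) (Localization.Away f)
    haveI : Algebra.FinitePresentation R (A ⊗[R] B) := Algebra.FinitePresentation.trans R A _
    haveI : Module.FaithfullyFlat R (A ⊗[R] B) := Module.FaithfullyFlat.trans R A _
    refine ⟨A ⊗[R] B, inferInstance, inferInstance, inferInstance, inferInstance, inferInstance,
      fun q' _ f' hf' hq => ?_⟩
    -- transport a witness along an algebra map into the tensor product
    have key : ∀ (C : Type u) [CommRing C] [Algebra R C] (j : C →ₐ[R] A ⊗[R] B) (g' : C),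
        g' ∉ q'.comap j.toRingHom → (S →ₐ[R] Localization.Away g') →
        ∃ (g'' : A ⊗[R] B) (_ : g'' ∉ q'), Nonempty (S →ₐ[R] Localization.Away g'') := by
      intro C _ _ j g' hg' F
      refine ⟨j g', hg', ⟨AlgHom.comp ?_ F⟩⟩
      exact Localization.awayMapₐ j g'
    have hund : ∀ (C : Type u) [CommRing C] [Algebra R C] (j : C →ₐ[R] A ⊗[R] B),
        (q'.comap j.toRingHom).under R = q'.under R := fun C _ _ j => by
      rw [Ideal.under_def, Ideal.under_def, Ideal.comap_comap]
      exact congrArg (fun φ => Ideal.comap φ q') j.comp_algebraMap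
    rcases Finset.mem_insert.mp hf' with rfl | hf'
    · obtain ⟨q, hfq, hq⟩ := hq
      obtain ⟨Q, hQ⟩ : q ∈ Set.range
          (PrimeSpectrum.comap (algebraMap S (Localization.Away f'))) := by
        rw [PrimeSpectrum.localization_away_comap_range _ f']
        exact hfq
      let j : B →ₐ[R] A ⊗[R] B := Algebra.TensorProduct.includeRight
      obtain ⟨g', hg', φ, -⟩ := hB Q.asIdeal (q'.comap j.toRingHom) (by
        rw [hund B j, ← hq, ← hQ, Ideal.under_def, Ideal.under_def, PrimeSpectrum.comap_asIdeal,
          Ideal.comap_comap, ← IsScalarTower.algebraMap_eq])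
      exact key B j g' hg' (φ.comp (IsScalarTower.toAlgHom R S (Localization.Away f')))
    · let j : A →ₐ[R] A ⊗[R] B := Algebra.TensorProduct.includeLeft
      obtain ⟨g', hg', ⟨F⟩⟩ := hA (q'.comap j.toRingHom) f' hf' (by rwa [hund A j])
      exact key A j g' hg' F

theorem exists_dominating_etale (S : Type u) [CommRing S] [Algebra R S] [Algebra.Etale R S]
    (hs : Function.Surjective (PrimeSpectrum.comap (algebraMap R S))) :
    ∃ (S' : Type u) (_ : CommRing S') (_ : Algebra R S'),
      Module.Finite R S' ∧ Algebra.FinitePresentation R S' ∧ Module.Flat R S' ∧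
        Function.Surjective (PrimeSpectrum.comap (algebraMap R S')) ∧
        ∀ (q' : Ideal S') [q'.IsPrime], ∃ (g' : S') (_ : g' ∉ q'),
          Nonempty (S →ₐ[R] Localization.Away g') := by
  choose f hf hstd using fun q : PrimeSpectrum S =>
    Algebra.IsEtaleAt.exists_isStandardEtale (R := R) q.asIdeal
  let W : PrimeSpectrum S → Set (PrimeSpectrum R) := fun q =>
    PrimeSpectrum.comap (algebraMap R S) '' (PrimeSpectrum.basicOpen (f q) : Set (PrimeSpectrum S))
  obtain ⟨t, ht⟩ := isCompact_univ.elim_finite_subcover W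
    (fun q => PrimeSpectrum.isOpenMap_comap_of_hasGoingDown_of_finitePresentation _
      (PrimeSpectrum.basicOpen (f q)).isOpen)
    fun p _ => by
      obtain ⟨q, rfl⟩ := hs p
      exact Set.mem_iUnion.mpr ⟨q, q, hf q, rfl⟩
  classical
  obtain ⟨S', i1, i2, h1, h2, h3, h4⟩ := exists_dominating (R := R) S (t.image f) fun g hg => by
    obtain ⟨q, -, rfl⟩ := Finset.mem_image.mp hg
    exact hstd q
  refine ⟨S', i1, i2, h1, h2, inferInstance, PrimeSpectrum.comap_surjective_of_faithfullyFlat,
    fun q' _ => ?_⟩
  obtain ⟨q, hq, Q, hfQ, hQ⟩ := Set.mem_iUnion₂.mp (ht (Set.mem_univ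
    (⟨q'.under R, inferInstance⟩ : PrimeSpectrum R)))
  exact h4 q' (f q) (Finset.mem_image_of_mem f hq) ⟨Q, hfQ, congrArg PrimeSpectrum.asIdeal hQ⟩

theorem exists_factor_local [IsLocalRing R] (T : Type u) [CommRing T] [Algebra R T]
    [Algebra.Etale R T] (q : Ideal T) [q.IsPrime] (S : Type u) [CommRing S] [IsLocalRing S]
    [Algebra T S] [IsLocalization.AtPrime S q] [Algebra R S] [IsScalarTower R T S]
    [IsLocalHom (algebraMap R S)] :
    ∃ (S' : Type u) (_ : CommRing S') (_ : Algebra R S'),
      Module.Finite R S' ∧ Algebra.FinitePresentation R S' ∧ Module.FaithfullyFlat R S' ∧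
        ∀ (m' : Ideal S') [m'.IsMaximal], Nonempty (S →ₐ[R] Localization.AtPrime m') := by
  obtain ⟨f, hf, hstd⟩ := Algebra.IsEtaleAt.exists_isStandardEtale (R := R) q
  obtain ⟨S', i1, i2, h1, h2, h3, h4⟩ := exists_cover_standard (R := R) (Localization.Away f)
  refine ⟨S', i1, i2, h1, h2, h3, fun m' _ => ?_⟩
  obtain ⟨Q, hQ⟩ : (⟨q, ‹_›⟩ : PrimeSpectrum T) ∈ Set.range
      (PrimeSpectrum.comap (algebraMap T (Localization.Away f))) := by
    rw [PrimeSpectrum.localization_away_comap_range _ f]
    exact hf
  have hQ' : Q.asIdeal.comap (algebraMap T (Localization.Away f)) = q :=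
    congrArg PrimeSpectrum.asIdeal hQ
  have hm : m'.under R = Q.asIdeal.under R := by
    haveI : Algebra.IsIntegral R S' := Algebra.IsIntegral.of_finite R S'
    have e1 : m'.under R = IsLocalRing.maximalIdeal R :=
      IsLocalRing.eq_maximalIdeal (Ideal.isMaximal_comap_of_isIntegral_of_isMaximal m')
    have e2 : q.under R = IsLocalRing.maximalIdeal R := by
      rw [← IsLocalization.AtPrime.comap_maximalIdeal S q, Ideal.under_def, Ideal.comap_comap,
        ← IsScalarTower.algebraMap_eq]
      exact IsLocalRing.maximalIdeal_comap _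
    rw [e1, ← e2, ← hQ', Ideal.under_def, Ideal.under_def, Ideal.comap_comap,
      ← IsScalarTower.algebraMap_eq]
  obtain ⟨g', hg', φ, hφ⟩ := h4 Q.asIdeal m' hm
  let Sm := Localization.AtPrime m'
  have hu : IsUnit ((IsScalarTower.toAlgHom R S' Sm).toRingHom g') :=
    IsLocalization.map_units (M := m'.primeCompl) Sm ⟨g', hg'⟩
  let L : Localization.Away g' →+* Sm :=
    IsLocalization.Away.lift (g := (IsScalarTower.toAlgHom R S' Sm).toRingHom) g' hu
  have hL : ∀ a, L (algebraMap _ _ a) = algebraMap S' Sm a := fun a =>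
    IsLocalization.Away.lift_eq g' hu a
  let ψ : T →+* Sm := L.comp (φ.toRingHom.comp (algebraMap T (Localization.Away f)))
  have hker : m'.map (algebraMap S' (Localization.Away g')) =
      (IsLocalRing.maximalIdeal Sm).comap L := by
    refine map_eq_of_comap_eq g' m' _ ?_
    rw [Ideal.comap_comap, show L.comp (algebraMap S' _) = algebraMap S' Sm from RingHom.ext hL]
    exact IsLocalization.AtPrime.comap_maximalIdeal Sm m'
  have hψ : ∀ a : T, a ∉ q → IsUnit (ψ a) := fun a ha => by
    by_contra hnu
    have h0 : φ (algebraMap T (Localization.Away f) a) ∈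
        (IsLocalRing.maximalIdeal Sm).comap L := (IsLocalRing.mem_maximalIdeal _).mpr hnu
    rw [← hker] at h0
    have h1 : algebraMap T (Localization.Away f) a ∈
        (m'.map (algebraMap S' (Localization.Away g'))).comap φ := h0
    rw [hφ] at h1
    exact ha (hQ' ▸ h1)
  refine ⟨{ (IsLocalization.lift (M := q.primeCompl) (fun y => hψ y.1 y.2) : S →+* Sm) with
    commutes' := fun x => ?_ }⟩
  show IsLocalization.lift _ (algebraMap R S x) = _
  rw [IsScalarTower.algebraMap_apply R T S, IsLocalization.lift_eq]
  show L (φ (algebraMap T (Localization.Away f) (algebraMap R T x))) = _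
  rw [← IsScalarTower.algebraMap_apply, φ.commutes,
    IsScalarTower.algebraMap_apply R S' (Localization.Away g'), hL,
    ← IsScalarTower.algebraMap_apply]

end Groth.Agent.SplitCoverLib
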